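import Cfsg.Prelude.Def_LieExceptional

/-!
# Elementary theory of (B, N)-pairs

Length on `W = N / (B ⊓ N)`, the rules for products of cells, Bruhat decomposition with uniqueness,
the exchange condition, standard parabolic subgroups and their lattice properties.
-/

namespace Cfsg.Agent.Lib.BNPair.Basic

open DoubleCoset

variable {G : Type*} [Group G] (P : Cfsg.BNPair G)

/-- The cell `B n B`. -/
abbrev cell (n : G) : Set G := doubleCoset n (P.B : Set G) P.B

/-- `n` and `m` have the same image modulo `B ⊓ N` (for `n`, `m` in `N`). -/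
def SameW (n m : G) : Prop := n⁻¹ * m ∈ P.B

/-- `l` is a word in the distinguished generators with image equal to that of `n`. -/
def IsWord (l : List G) (n : G) : Prop := (∀ x ∈ l, x ∈ P.S) ∧ SameW P l.prod n

/-- The length of an element of `N` with respect to the distinguished generators. -/
noncomputable def len (n : G) : ℕ := sInf {k | ∃ l, IsWord P l n ∧ l.length = k}

variable {P}

theorem S_subset_N {s : G} (hs : s ∈ P.S) : s ∈ P.N := P.subset hs

theorem conj_B {n b : G} (hn : n ∈ P.N) (hb : b ∈ P.B) (hbN : b ∈ P.N) : n * b * n⁻¹ ∈ P.B :=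
  P.conj_mem n hn b ⟨hb, hbN⟩

theorem conj_B' {n b : G} (hn : n ∈ P.N) (hb : b ∈ P.B) (hbN : b ∈ P.N) : n⁻¹ * b * n ∈ P.B := by
  simpa using conj_B (P.N.inv_mem hn) hb hbN

theorem sameW_refl (n : G) : SameW P n n := by simp [SameW]

theorem sameW_symm {n m : G} (h : SameW P n m) : SameW P m n := by
  simpa [SameW] using P.B.inv_mem h

theorem sameW_trans {n m k : G} (h : SameW P n m) (h' : SameW P m k) : SameW P n k := by
  simpa [SameW, mul_assoc] using P.B.mul_mem h h'

theorem sameW_mul_left (x : G) {n m : G} (h : SameW P n m) : SameW P (x * n) (x * m) := by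
  simpa [SameW, mul_assoc] using h

theorem sameW_mul_right {n m x : G} (hn : n ∈ P.N) (hm : m ∈ P.N) (hx : x ∈ P.N)
    (h : SameW P n m) : SameW P (n * x) (m * x) := by
  simpa [SameW, mul_assoc] using conj_B' hx h (P.N.mul_mem (P.N.inv_mem hn) hm)

theorem sameW_inv {n m : G} (hn : n ∈ P.N) (hm : m ∈ P.N) (h : SameW P n m) :
    SameW P n⁻¹ m⁻¹ := by
  simpa [SameW, mul_assoc] using
    conj_B hn (sameW_symm h) (P.N.mul_mem (P.N.inv_mem hm) hn)

theorem sameW_one_iff {n : G} : SameW P 1 n ↔ n ∈ P.B := by simp [SameW]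

theorem inv_sameW {s : G} (hs : s ∈ P.S) : SameW P s⁻¹ s := by
  simpa [SameW] using (P.sq_mem s hs)

theorem sq_sameW {s : G} (hs : s ∈ P.S) : SameW P (s * s) 1 := by
  simpa [SameW] using P.B.inv_mem (P.sq_mem s hs)

theorem sq_mul_sameW {s n : G} (hs : s ∈ P.S) (hn : n ∈ P.N) : SameW P (s * (s * n)) n := by
  simpa [mul_assoc] using
    sameW_mul_right (P.N.mul_mem (S_subset_N hs) (S_subset_N hs)) P.N.one_mem hn (sq_sameW hs)

theorem mul_sq_sameW {s n : G} (hs : s ∈ P.S) : SameW P (n * s * s) n := by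
  simpa [mul_assoc] using sameW_mul_left n (sq_sameW hs)

theorem not_mem_B {s : G} (hs : s ∈ P.S) : s ∉ P.B := by
  intro hB
  refine P.conj_ne s hs (Set.ext fun x => ⟨?_, fun hx => ?_⟩)
  · rintro ⟨b, hb, rfl⟩; exact P.B.mul_mem (P.B.mul_mem hB hb) hB
  · exact ⟨s⁻¹ * x * s⁻¹, P.B.mul_mem (P.B.mul_mem (P.B.inv_mem hB) hx) (P.B.inv_mem hB),
      by simp [mul_assoc]⟩

/-! ### Cells -/

theorem mem_cell_iff {n g : G} :
    g ∈ cell P n ↔ ∃ x ∈ P.B, ∃ y ∈ P.B, g = x * n * y := by
  simp [mem_doubleCoset]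

theorem mem_cell_self (n : G) : n ∈ cell P n := mem_doubleCoset_self P.B P.B n

theorem cell_eq_of_mem {n g : G} (h : g ∈ cell P n) : cell P g = cell P n :=
  doubleCoset_eq_of_mem h

theorem cell_eq_of_sameW {n m : G} (h : SameW P n m) : cell P m = cell P n :=
  cell_eq_of_mem (mem_cell_iff.2 ⟨1, P.B.one_mem, n⁻¹ * m, h, by simp⟩)

theorem cell_of_mem_B {n : G} (hn : n ∈ P.B) : cell P n = (P.B : Set G) := by
  ext g
  rw [mem_cell_iff]
  refine ⟨?_, fun hg => ⟨g * n⁻¹, P.B.mul_mem hg (P.B.inv_mem hn), 1, P.B.one_mem, by simp⟩⟩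
  rintro ⟨x, hx, y, hy, rfl⟩
  exact P.B.mul_mem (P.B.mul_mem hx hn) hy

theorem mul_mem_cell_left {n g b : G} (hb : b ∈ P.B) (hg : g ∈ cell P n) : b * g ∈ cell P n := by
  obtain ⟨x, hx, y, hy, rfl⟩ := mem_cell_iff.1 hg
  exact mem_cell_iff.2 ⟨b * x, P.B.mul_mem hb hx, y, hy, by group⟩

theorem mul_mem_cell_right {n g b : G} (hb : b ∈ P.B) (hg : g ∈ cell P n) : g * b ∈ cell P n := by
  obtain ⟨x, hx, y, hy, rfl⟩ := mem_cell_iff.1 hg
  exact mem_cell_iff.2 ⟨x, hx, y * b, P.B.mul_mem hy hb, by group⟩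

theorem inv_mem_cell {n g : G} (hg : g ∈ cell P n) : g⁻¹ ∈ cell P n⁻¹ := by
  obtain ⟨x, hx, y, hy, rfl⟩ := mem_cell_iff.1 hg
  exact mem_cell_iff.2 ⟨y⁻¹, P.B.inv_mem hy, x⁻¹, P.B.inv_mem hx, by group⟩

theorem cell_union {s n b : G} (hs : s ∈ P.S) (hn : n ∈ P.N) (hb : b ∈ P.B) :
    s * b * n ∈ cell P (s * n) ∨ s * b * n ∈ cell P n :=
  P.mul_mem_union s hs n hn b hb

theorem cell_union_right {s n b : G} (hs : s ∈ P.S) (hn : n ∈ P.N) (hb : b ∈ P.B) :
    n * b * s ∈ cell P (n * s) ∨ n * b * s ∈ cell P n := by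
  have hb' : (s * s)⁻¹ * b⁻¹ ∈ P.B :=
    P.B.mul_mem (P.B.inv_mem (P.sq_mem s hs)) (P.B.inv_mem hb)
  have e : s * ((s * s)⁻¹ * b⁻¹) * n⁻¹ = (n * b * s)⁻¹ := by group
  rcases cell_union hs (P.N.inv_mem hn) hb' with h | h <;> rw [e] at h <;>
    have h' := inv_mem_cell h <;> rw [inv_inv] at h'
  · left
    rw [mul_inv_rev, inv_inv, cell_eq_of_sameW (sameW_mul_left n (sameW_symm (inv_sameW hs)))] at h'
    exact h'
  · right
    rwa [inv_inv] at h'

theorem exists_mem_cell_s {s : G} (hs : s ∈ P.S) :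
    ∃ b ∈ P.B, s * b * s ∈ cell P s := by
  by_contra hc
  push Not at hc
  have hall : ∀ b ∈ P.B, s * b * s ∈ P.B := by
    intro b hb
    rcases cell_union hs (S_subset_N hs) hb with h | h
    · rwa [cell_of_mem_B (P.sq_mem s hs), SetLike.mem_coe] at h
    · exact absurd h (hc b hb)
  refine P.conj_ne s hs (Set.ext fun x => ⟨?_, fun hx => ⟨s⁻¹ * x * s⁻¹, ?_, by simp [mul_assoc]⟩⟩)
  · rintro ⟨b, hb, rfl⟩; exact hall b hb
  · have e : s⁻¹ * x * s⁻¹ = (s * s)⁻¹ * (s * x * s) * (s * s)⁻¹ := by group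
    rw [SetLike.mem_coe, e]
    exact P.B.mul_mem (P.B.mul_mem (P.B.inv_mem (P.sq_mem s hs)) (hall x hx))
      (P.B.inv_mem (P.sq_mem s hs))

/-! ### Words and length -/

theorem prod_mem_N {l : List G} (hl : ∀ x ∈ l, x ∈ P.S) : l.prod ∈ P.N :=
  list_prod_mem fun x hx => S_subset_N (hl x hx)

theorem prod_mem_closure {l : List G} {J : Set G} (hl : ∀ x ∈ l, x ∈ J) :
    l.prod ∈ Subgroup.closure J :=
  list_prod_mem fun x hx => Subgroup.subset_closure (hl x hx)

theorem isWord_of_sameW {l : List G} {n m : G} (h : IsWord P l n) (h' : SameW P n m) :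
    IsWord P l m := ⟨h.1, sameW_trans h.2 h'⟩

theorem isWord_cons {s : G} (hs : s ∈ P.S) {l : List G} {n : G} (h : IsWord P l n) :
    IsWord P (s :: l) (s * n) :=
  ⟨by simpa [hs] using h.1, by rw [List.prod_cons]; exact sameW_mul_left s h.2⟩

theorem isWord_concat {s : G} (hs : s ∈ P.S) {l : List G} {n : G} (hn : n ∈ P.N)
    (h : IsWord P l n) : IsWord P (l ++ [s]) (n * s) :=
  ⟨by
    intro x hx
    rcases List.mem_append.1 hx with hx | hx
    · exact h.1 x hx
    · rw [List.mem_singleton] at hx; exact hx ▸ hs,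
   by simpa using sameW_mul_right (prod_mem_N h.1) hn (S_subset_N hs) h.2⟩

theorem reverse_prod_sameW : ∀ {l : List G}, (∀ x ∈ l, x ∈ P.S) →
    SameW P l.reverse.prod l.prod⁻¹
  | [], _ => by simp [SameW]
  | s :: l, h => by
    have hs : s ∈ P.S := h s (by simp)
    have hl : ∀ x ∈ l, x ∈ P.S := fun x hx => h x (by simp [hx])
    have ih := reverse_prod_sameW hl
    have h1 : SameW P (l.reverse.prod * s) (l.prod⁻¹ * s) :=
      sameW_mul_right (prod_mem_N fun x hx => hl x (List.mem_reverse.1 hx))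
        (P.N.inv_mem (prod_mem_N hl)) (S_subset_N hs) ih
    have h2 := sameW_trans h1 (sameW_mul_left l.prod⁻¹ (sameW_symm (inv_sameW hs)))
    simpa using h2

theorem isWord_reverse {l : List G} {n : G} (hn : n ∈ P.N) (h : IsWord P l n) :
    IsWord P l.reverse n⁻¹ :=
  ⟨fun x hx => h.1 x (List.mem_reverse.1 hx),
    sameW_trans (reverse_prod_sameW h.1) (sameW_inv (prod_mem_N h.1) hn h.2)⟩

theorem exists_word_of_mem_closure {J : Set G} (hJ : J ⊆ P.S) {n : G}
    (hn : n ∈ Subgroup.closure J) : ∃ l, (∀ x ∈ l, x ∈ J) ∧ IsWord P l n := by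
  have hJN : Subgroup.closure J ≤ P.N := (Subgroup.closure_le _).2 fun x hx => P.subset (hJ hx)
  induction hn using Subgroup.closure_induction_left with
  | one => exact ⟨[], by simp, by simp [IsWord, SameW]⟩
  | mul_left x hx y hy ih =>
    obtain ⟨l, hlJ, hl⟩ := ih
    exact ⟨x :: l, by simpa [hx] using hlJ, isWord_cons (hJ hx) hl⟩
  | inv_mul_cancel x hx y hy ih =>
    obtain ⟨l, hlJ, hl⟩ := ih
    refine ⟨x :: l, by simpa [hx] using hlJ, isWord_of_sameW (isWord_cons (hJ hx) hl) ?_⟩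
    exact sameW_mul_right (S_subset_N (hJ hx)) (P.N.inv_mem (S_subset_N (hJ hx))) (hJN hy)
      (sameW_symm (inv_sameW (hJ hx)))

theorem exists_closure_sameW {n : G} (hn : n ∈ P.N) :
    ∃ m ∈ Subgroup.closure P.S, SameW P m n := by
  have hle : Subgroup.closure P.S ≤ Subgroup.normalizer ((P.B ⊓ P.N : Subgroup G) : Set G) := by
    refine (Subgroup.closure_le _).2 fun x hx => ?_
    rw [SetLike.mem_coe, Subgroup.mem_normalizer_iff]
    intro b
    have hxN := S_subset_N hx
    constructor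
    · intro hb
      exact ⟨P.conj_mem x hxN b hb, P.N.mul_mem (P.N.mul_mem hxN hb.2) (P.N.inv_mem hxN)⟩
    · intro hb
      have h1 := conj_B' hxN hb.1 hb.2
      have h2 := P.N.mul_mem (P.N.mul_mem (P.N.inv_mem hxN) hb.2) hxN
      simp [mul_assoc] at h1 h2
      exact ⟨h1, h2⟩
  have hn' : n ∈ ((Subgroup.closure P.S ⊔ (P.B ⊓ P.N) : Subgroup G) : Set G) := by
    rw [P.closure_sup]; exact hn
  rw [Subgroup.coe_mul_of_left_le_normalizer_right _ _ hle] at hn'
  obtain ⟨m, hm, t, ht, rfl⟩ := Set.mem_mul.1 hn'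
  exact ⟨m, hm, by simpa [SameW] using ht.1⟩

theorem exists_word {n : G} (hn : n ∈ P.N) : ∃ l, IsWord P l n := by
  obtain ⟨m, hm, hmn⟩ := exists_closure_sameW hn
  obtain ⟨l, -, hl⟩ := exists_word_of_mem_closure (subset_refl _) hm
  exact ⟨l, isWord_of_sameW hl hmn⟩

theorem exists_reduced {n : G} (hn : n ∈ P.N) : ∃ l, IsWord P l n ∧ l.length = len P n := by
  obtain ⟨l, hl⟩ := exists_word hn
  exact Nat.sInf_mem (s := {k | ∃ l, IsWord P l n ∧ l.length = k}) ⟨_, l, hl, rfl⟩

theorem len_le {l : List G} {n : G} (h : IsWord P l n) : len P n ≤ l.length :=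
  Nat.sInf_le ⟨l, h, rfl⟩

theorem len_congr {n m : G} (hn : n ∈ P.N) (hm : m ∈ P.N) (h : SameW P n m) :
    len P n = len P m := by
  obtain ⟨l, hl, hll⟩ := exists_reduced hn
  obtain ⟨l', hl', hll'⟩ := exists_reduced hm
  have := len_le (isWord_of_sameW hl h)
  have := len_le (isWord_of_sameW hl' (sameW_symm h))
  omega

theorem len_eq_zero_iff {n : G} (hn : n ∈ P.N) : len P n = 0 ↔ n ∈ P.B := by
  refine ⟨fun h => ?_, fun h => Nat.le_zero.1 (len_le (l := []) ⟨by simp, by simpa [SameW]⟩)⟩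
  obtain ⟨l, hl, hll⟩ := exists_reduced hn
  rw [h, List.length_eq_zero_iff] at hll
  subst hll
  simpa [SameW] using hl.2

theorem len_one : len P (1 : G) = 0 := (len_eq_zero_iff P.N.one_mem).2 P.B.one_mem

theorem len_mul_left_le {s n : G} (hs : s ∈ P.S) (hn : n ∈ P.N) :
    len P (s * n) ≤ len P n + 1 := by
  obtain ⟨l, hl, hll⟩ := exists_reduced hn
  simpa [hll] using len_le (isWord_cons hs hl)

theorem le_len_mul_left {s n : G} (hs : s ∈ P.S) (hn : n ∈ P.N) :
    len P n ≤ len P (s * n) + 1 := by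
  have hsn := P.N.mul_mem (S_subset_N hs) hn
  calc len P n = len P (s * (s * n)) :=
        len_congr hn (P.N.mul_mem (S_subset_N hs) hsn) (sameW_symm (sq_mul_sameW hs hn))
    _ ≤ len P (s * n) + 1 := len_mul_left_le hs hsn

theorem len_mul_right_le {s n : G} (hs : s ∈ P.S) (hn : n ∈ P.N) :
    len P (n * s) ≤ len P n + 1 := by
  obtain ⟨l, hl, hll⟩ := exists_reduced hn
  simpa [hll] using len_le (isWord_concat hs hn hl)

theorem le_len_mul_right {s n : G} (hs : s ∈ P.S) (hn : n ∈ P.N) :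
    len P n ≤ len P (n * s) + 1 := by
  have hns := P.N.mul_mem hn (S_subset_N hs)
  calc len P n = len P (n * s * s) :=
        len_congr hn (P.N.mul_mem hns (S_subset_N hs)) (sameW_symm (mul_sq_sameW hs))
    _ ≤ len P (n * s) + 1 := len_mul_right_le hs hns

theorem len_inv {n : G} (hn : n ∈ P.N) : len P n⁻¹ = len P n := by
  have key : ∀ m : G, m ∈ P.N → len P m⁻¹ ≤ len P m := fun m hm => by
    obtain ⟨l, hl, hll⟩ := exists_reduced hm
    simpa [hll] using len_le (isWord_reverse hm hl)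
  refine le_antisymm (key n hn) ?_
  simpa using key n⁻¹ (P.N.inv_mem hn)

theorem exists_left_descent {n : G} (hn : n ∈ P.N) (hB : n ∉ P.B) :
    ∃ s ∈ P.S, len P (s * n) + 1 = len P n := by
  obtain ⟨l, hl, hll⟩ := exists_reduced hn
  cases l with
  | nil => exact absurd ((len_eq_zero_iff hn).1 (by simpa using hll.symm)) hB
  | cons s l' =>
    have hs : s ∈ P.S := hl.1 s (by simp)
    have hl' : ∀ x ∈ l', x ∈ P.S := fun x hx => hl.1 x (by simp [hx])
    refine ⟨s, hs, le_antisymm ?_ (le_len_mul_left hs hn)⟩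
    have h2 : IsWord P l' (s * n) := by
      refine ⟨hl', sameW_trans (sameW_symm (sq_mul_sameW hs (prod_mem_N hl'))) ?_⟩
      simpa using sameW_mul_left s hl.2
    have := len_le h2
    rw [List.length_cons] at hll
    omega

theorem exists_right_descent {n : G} (hn : n ∈ P.N) (hB : n ∉ P.B) :
    ∃ s ∈ P.S, len P (n * s) + 1 = len P n := by
  have hni := P.N.inv_mem hn
  obtain ⟨s, hs, h⟩ := exists_left_descent hni fun h => hB (by simpa using P.B.inv_mem h)
  refine ⟨s, hs, ?_⟩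
  rw [← len_inv (P.N.mul_mem (S_subset_N hs) hni), len_inv hn, mul_inv_rev, inv_inv,
    len_congr (P.N.mul_mem hn (P.N.inv_mem (S_subset_N hs))) (P.N.mul_mem hn (S_subset_N hs))
      (sameW_mul_left n (inv_sameW hs))] at h
  exact h

/-! ### Bruhat decomposition: uniqueness -/

private theorem cell_inj_aux : ∀ k : ℕ, ∀ n m : G, n ∈ P.N → m ∈ P.N → len P n = k →
    len P n ≤ len P m → cell P n = cell P m → SameW P n m := by
  intro k
  induction k using Nat.strong_induction_on with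
  | _ k ih =>
    intro n m hn hm hk hle heq
    by_cases hB : n ∈ P.B
    · have hm' : m ∈ cell P n := heq ▸ mem_cell_self m
      rw [cell_of_mem_B hB] at hm'
      exact P.B.mul_mem (P.B.inv_mem hB) hm'
    obtain ⟨s, hs, hlt⟩ := exists_left_descent hn hB
    obtain ⟨x, hx, y, hy, e⟩ := mem_cell_iff.1 (show n ∈ cell P m from heq ▸ mem_cell_self n)
    have hsn := P.N.mul_mem (S_subset_N hs) hn
    have hsm := P.N.mul_mem (S_subset_N hs) hm
    have e' : s * n = s * x * m * y := by rw [e]; group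
    rcases cell_union hs hm hx with h | h
    · have hc : cell P (s * n) = cell P (s * m) := cell_eq_of_mem (by rw [e']; exact mul_mem_cell_right hy h)
      have := le_len_mul_left hs hm
      have h2 := ih (len P (s * n)) (by omega) _ _ hsn hsm rfl (by omega) hc
      simpa [SameW, mul_assoc] using h2
    · have hc : cell P (s * n) = cell P m := cell_eq_of_mem (by rw [e']; exact mul_mem_cell_right hy h)
      have h2 := ih (len P (s * n)) (by omega) _ _ hsn hm rfl (by omega) hc
      have := len_congr hsn hm h2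
      omega

theorem sameW_of_cell_eq {n m : G} (hn : n ∈ P.N) (hm : m ∈ P.N) (h : cell P n = cell P m) :
    SameW P n m := by
  rcases le_total (len P n) (len P m) with hle | hle
  · exact cell_inj_aux _ n m hn hm rfl hle h
  · exact sameW_symm (cell_inj_aux _ m n hm hn rfl hle h.symm)

theorem cell_eq_iff {n m : G} (hn : n ∈ P.N) (hm : m ∈ P.N) :
    cell P n = cell P m ↔ SameW P n m :=
  ⟨sameW_of_cell_eq hn hm, fun h => (cell_eq_of_sameW h).symm⟩

theorem sameW_of_mem_cell {n m g : G} (hn : n ∈ P.N) (hm : m ∈ P.N) (h : g ∈ cell P n)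
    (h' : g ∈ cell P m) : SameW P n m :=
  sameW_of_cell_eq hn hm ((cell_eq_of_mem h).symm.trans (cell_eq_of_mem h'))

theorem mem_cell_iff_sameW {n m : G} (hn : n ∈ P.N) (hm : m ∈ P.N) :
    m ∈ cell P n ↔ SameW P n m :=
  ⟨fun h => sameW_of_mem_cell hn hm h (mem_cell_self m),
    fun h => cell_eq_of_sameW h ▸ mem_cell_self m⟩

theorem not_sameW_mul {s n : G} (hs : s ∈ P.S) (hn : n ∈ P.N) : ¬ SameW P n (s * n) := by
  intro h
  apply not_mem_B hs
  simpa [mul_assoc] using
    conj_B hn h (P.N.mul_mem (P.N.inv_mem hn) (P.N.mul_mem (S_subset_N hs) hn))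

/-! ### Products of cells -/

private theorem up_aux : ∀ k : ℕ, ∀ s n : G, s ∈ P.S → n ∈ P.N → len P n = k →
    len P n ≤ len P (s * n) → ∀ b ∈ P.B, s * b * n ∈ cell P (s * n) := by
  intro k
  induction k using Nat.strong_induction_on with
  | _ k ih =>
    intro s n hs hn hk hle b hb
    by_cases hB : n ∈ P.B
    · refine mul_mem_cell_right hB ?_
      rw [cell_eq_of_sameW (n := s) (m := s * n) (by simpa [SameW] using hB)]
      exact mul_mem_cell_right hb (mem_cell_self s)
    refine (cell_union hs hn hb).resolve_right fun hbad => ?_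
    obtain ⟨r, hr, hlt⟩ := exists_right_descent hn hB
    have hr' := S_subset_N hr
    have hsn := P.N.mul_mem (S_subset_N hs) hn
    set n₁ := n * r with hn₁def
    have hn₁ : n₁ ∈ P.N := P.N.mul_mem hn hr'
    have hsn₁ := P.N.mul_mem (S_subset_N hs) hn₁
    have hnn : SameW P (n₁ * r) n := mul_sq_sameW hr
    have hsnn : SameW P (s * n₁ * r) (s * n) := by simpa [mul_assoc] using sameW_mul_left s hnn
    have hlen : len P (s * n) ≤ len P (s * n₁) + 1 := by
      rw [← len_congr (P.N.mul_mem hsn₁ hr') hsn hsnn]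
      exact len_mul_right_le hr hsn₁
    have h1 := ih (len P n₁) (by omega) s n₁ hs hn₁ rfl (by omega) b hb
    obtain ⟨x, hx, y, hy, e⟩ := mem_cell_iff.1 h1
    have ht : (n₁ * r)⁻¹ * n ∈ P.B := hnn
    have e' : s * b * n = x * (s * n₁ * y * r) * ((n₁ * r)⁻¹ * n) :=
      calc s * b * n = (s * b * n₁) * r * ((n₁ * r)⁻¹ * n) := by group
        _ = _ := by rw [e]; group
    rcases cell_union_right hr hsn₁ hy with h | h
    · have h' : s * b * n ∈ cell P (s * n₁ * r) := by
        rw [e']; exact mul_mem_cell_right ht (mul_mem_cell_left hx h)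
      exact not_sameW_mul hs hn
        (sameW_trans (sameW_of_mem_cell hn (P.N.mul_mem hsn₁ hr') hbad h') hsnn)
    · have h' : s * b * n ∈ cell P (s * n₁) := by
        rw [e']; exact mul_mem_cell_right ht (mul_mem_cell_left hx h)
      have hs1 := sameW_of_mem_cell hn hsn₁ hbad h'
      have hss : SameW P (s * n) n₁ :=
        sameW_trans (sameW_mul_left s hs1) (sq_mul_sameW hs hn₁)
      have := len_congr hsn hn₁ hss
      omega

/-- `C(s) C(n) = C(sn)` when the length does not go down. -/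
theorem mul_mem_cell_of_le {s n b : G} (hs : s ∈ P.S) (hn : n ∈ P.N)
    (h : len P n ≤ len P (s * n)) (hb : b ∈ P.B) : s * b * n ∈ cell P (s * n) :=
  up_aux _ s n hs hn rfl h b hb

theorem len_mul_left_ne {s n : G} (hs : s ∈ P.S) (hn : n ∈ P.N) :
    len P (s * n) ≠ len P n := by
  intro heq
  obtain ⟨b, hb, hbs⟩ := exists_mem_cell_s hs
  obtain ⟨x, hx, y, hy, e⟩ := mem_cell_iff.1 hbs
  have hsn := P.N.mul_mem (S_subset_N hs) hn
  have h1 : s * b * s * n ∈ cell P (s * n) := by
    rw [show s * b * s * n = x * (s * y * n) by rw [e]; group]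
    exact mul_mem_cell_left hx (mul_mem_cell_of_le hs hn (by omega) hy)
  have hle : len P (s * n) ≤ len P (s * (s * n)) := by
    rw [len_congr (P.N.mul_mem (S_subset_N hs) hsn) hn (sq_mul_sameW hs hn), heq]
  have h2 := mul_mem_cell_of_le hs hsn hle hb
  rw [← mul_assoc (s * b) s n] at h2
  exact not_sameW_mul hs hn (sameW_trans (sameW_symm (sq_mul_sameW hs hn))
    (sameW_of_mem_cell (P.N.mul_mem (S_subset_N hs) hsn) hsn h2 h1))

theorem len_mul_left_cases {s n : G} (hs : s ∈ P.S) (hn : n ∈ P.N) :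
    len P (s * n) = len P n + 1 ∨ len P (s * n) + 1 = len P n := by
  have := len_mul_left_le hs hn
  have := le_len_mul_left hs hn
  have := len_mul_left_ne hs hn
  omega

/-- If the length goes down then `C(s) C(n)` meets `C(n)`. -/
theorem exists_mem_cell_of_lt {s n : G} (hs : s ∈ P.S) (hn : n ∈ P.N)
    (h : len P (s * n) < len P n) : ∃ b ∈ P.B, s * b * n ∈ cell P n := by
  obtain ⟨b, hb, hbs⟩ := exists_mem_cell_s hs
  obtain ⟨x, hx, y, hy, e⟩ := mem_cell_iff.1 hbs
  have hsn := P.N.mul_mem (S_subset_N hs) hn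
  have ht : (s * (s * n))⁻¹ * n ∈ P.B := sq_mul_sameW hs hn
  refine ⟨b, hb, ?_⟩
  have e' : s * b * n = x * (s * y * (s * n)) * ((s * (s * n))⁻¹ * n) :=
    calc s * b * n = (s * b * s) * (s * n) * ((s * (s * n))⁻¹ * n) := by group
      _ = _ := by rw [e]; group
  rw [e', cell_eq_of_sameW (sq_mul_sameW hs hn)]
  refine mul_mem_cell_right ht (mul_mem_cell_left hx (mul_mem_cell_of_le hs hsn ?_ hy))
  rw [len_congr (P.N.mul_mem (S_subset_N hs) hsn) hn (sq_mul_sameW hs hn)]
  omega

/-! ### Exchange condition -/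

private theorem exchange_aux : ∀ (l : List G) (s n : G), s ∈ P.S → n ∈ P.N → IsWord P l n →
    l.length = len P n → len P (s * n) < len P n →
    ∃ l' : List G, l'.Sublist l ∧ l'.length + 1 = l.length ∧ IsWord P l' (s * n) := by
  intro l
  induction l using List.reverseRecOn with
  | nil => intro s n _ _ _ hlen hlt; simp at hlen; omega
  | append_singleton l r ih =>
    intro s n hs hn hw hlen hlt
    have hr : r ∈ P.S := hw.1 r (by simp)
    have hl : ∀ x ∈ l, x ∈ P.S := fun x hx => hw.1 x (by simp [hx])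
    have hn₁ : l.prod ∈ P.N := prod_mem_N hl
    have hr' := S_subset_N hr
    have hnn : SameW P (l.prod * r) n := by simpa using hw.2
    rw [List.length_append, List.length_singleton] at hlen
    have hlenl : l.length = len P l.prod := by
      have h1 := len_le (n := l.prod) ⟨hl, sameW_refl _⟩
      have h2 := len_mul_right_le hr hn₁
      rw [len_congr (P.N.mul_mem hn₁ hr') hn hnn] at h2
      omega
    have hsn₁ := P.N.mul_mem (S_subset_N hs) hn₁
    rcases len_mul_left_cases hs hn₁ with hup | hdown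
    · refine ⟨l, List.sublist_append_left l [r], by simp, hl, ?_⟩
      obtain ⟨b, hb, hbn⟩ := exists_mem_cell_of_lt hs hn hlt
      obtain ⟨x, hx, y, hy, e⟩ :=
        mem_cell_iff.1 (mul_mem_cell_of_le hs hn₁ (by omega) hb)
      have e' : s * b * n = x * (s * l.prod * y * r) * ((l.prod * r)⁻¹ * n) :=
        calc s * b * n = (s * b * l.prod) * r * ((l.prod * r)⁻¹ * n) := by group
          _ = _ := by rw [e]; group
      rcases cell_union_right hr hsn₁ hy with h | h
      · exfalso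
        have h' : s * b * n ∈ cell P (s * l.prod * r) := by
          rw [e']; exact mul_mem_cell_right hnn (mul_mem_cell_left hx h)
        refine not_sameW_mul hs hn (sameW_trans
          (sameW_of_mem_cell hn (P.N.mul_mem hsn₁ hr') hbn h') ?_)
        simpa [mul_assoc] using sameW_mul_left s hnn
      · have h' : s * b * n ∈ cell P (s * l.prod) := by
          rw [e']; exact mul_mem_cell_right hnn (mul_mem_cell_left hx h)
        have h3 := sameW_of_mem_cell hn hsn₁ hbn h'
        exact sameW_symm (sameW_trans (sameW_mul_left s h3) (sq_mul_sameW hs hn₁))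
    · obtain ⟨l', hsub, hlen', hw'⟩ := ih s l.prod hs hn₁ ⟨hl, sameW_refl _⟩ hlenl (by omega)
      refine ⟨l' ++ [r], hsub.append (List.Sublist.refl _), by simp; omega,
        isWord_of_sameW (isWord_concat hr hsn₁ hw') ?_⟩
      simpa [mul_assoc] using sameW_mul_left s hnn

/-- Exchange condition. -/
theorem exchange {s n : G} {l : List G} (hs : s ∈ P.S) (hn : n ∈ P.N) (hw : IsWord P l n)
    (hlen : l.length = len P n) (hlt : len P (s * n) < len P n) :
    ∃ l' : List G, l'.Sublist l ∧ l'.length + 1 = l.length ∧ IsWord P l' (s * n) :=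
  exchange_aux l s n hs hn hw hlen hlt

/-- Every word contains a reduced word for the same element. -/
theorem exists_reduced_sublist : ∀ {l : List G}, (∀ x ∈ l, x ∈ P.S) →
    ∃ l' : List G, l'.Sublist l ∧ IsWord P l' l.prod ∧ l'.length = len P l.prod
  | [], _ => ⟨[], List.Sublist.refl _, ⟨by simp, sameW_refl _⟩, by simp [len_one]⟩
  | s :: l, h => by
    have hs : s ∈ P.S := h s (by simp)
    have hl : ∀ x ∈ l, x ∈ P.S := fun x hx => h x (by simp [hx])
    obtain ⟨l', hsub, hw, hlen⟩ := exists_reduced_sublist hl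
    have hN := prod_mem_N hl
    rw [List.prod_cons]
    rcases len_mul_left_cases hs hN with hup | hdown
    · exact ⟨s :: l', hsub.cons_cons s, isWord_cons hs hw, by simp; omega⟩
    · obtain ⟨l'', hsub', hlen', hw'⟩ := exchange hs hN hw hlen (by omega)
      exact ⟨l'', (hsub'.trans hsub).cons s, hw', by omega⟩

/-! ### Subgroups containing `B` -/

private theorem gen_aux : ∀ k : ℕ, ∀ n : G, n ∈ P.N → len P n = k → ∀ M : Subgroup G,
    P.B ≤ M → (∀ b ∈ P.B, n * b * n⁻¹ ∈ M) →
    n ∈ M ∧ ∀ l, IsWord P l n → l.length = k → ∀ x ∈ l, x ∈ M := by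
  intro k
  induction k using Nat.strong_induction_on with
  | _ k ih =>
    intro n hn hk M hB hM
    -- a left descent of `n` lies in `M`, and then the hypothesis descends to `s * n`
    have step : ∀ s ∈ P.S, len P (s * n) + 1 = k →
        s ∈ M ∧ s * n ∈ M ∧ ∀ l, IsWord P l (s * n) → l.length + 1 = k → ∀ x ∈ l, x ∈ M := by
      intro s hs hlt
      obtain ⟨b, hb, hbn⟩ := exists_mem_cell_of_lt hs hn (by omega)
      obtain ⟨x, hx, y, hy, e⟩ := mem_cell_iff.1 hbn
      have hsM : s ∈ M := by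
        rw [show s = x * (n * y * n⁻¹) * b⁻¹ by
          calc s = (s * b * n) * n⁻¹ * b⁻¹ := by group
            _ = _ := by rw [e]; group]
        exact M.mul_mem (M.mul_mem (hB hx) (hM y hy)) (M.inv_mem (hB hb))
      obtain ⟨h1, h2⟩ := ih (len P (s * n)) (by omega) (s * n)
        (P.N.mul_mem (S_subset_N hs) hn) rfl M hB fun c hc => by
          rw [show s * n * c * (s * n)⁻¹ = s * (n * c * n⁻¹) * s⁻¹ by group]
          exact M.mul_mem (M.mul_mem hsM (hM c hc)) (M.inv_mem hsM)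
      exact ⟨hsM, h1, fun l hl hlen => h2 l hl (by omega)⟩
    by_cases hnB : n ∈ P.B
    · refine ⟨hB hnB, fun l _ hlen x hx => ?_⟩
      rw [← hk, (len_eq_zero_iff hn).2 hnB, List.length_eq_zero_iff] at hlen
      simp [hlen] at hx
    obtain ⟨s, hs, hlt⟩ := exists_left_descent hn hnB
    obtain ⟨hsM, hsnM, -⟩ := step s hs (by omega)
    refine ⟨by simpa using M.mul_mem (M.inv_mem hsM) hsnM, ?_⟩
    rintro (_ | ⟨r, l⟩) hw hlen x hx
    · simp at hx
    have hr : r ∈ P.S := hw.1 r (by simp)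
    have hl : ∀ y ∈ l, y ∈ P.S := fun y hy => hw.1 y (by simp [hy])
    have hw' : IsWord P l (r * n) := by
      refine ⟨hl, sameW_trans (sameW_symm (sq_mul_sameW hr (prod_mem_N hl))) ?_⟩
      simpa using sameW_mul_left r hw.2
    have := len_le hw'
    have := le_len_mul_left hr hn
    rw [List.length_cons] at hlen
    obtain ⟨hrM, -, h3⟩ := step r hr (by omega)
    rcases List.mem_cons.1 hx with rfl | hx
    · exact hrM
    · exact h3 l hw' hlen x hx

/-- If a subgroup contains `B` and `n B n⁻¹` then it contains `n`. -/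
theorem mem_of_conj_le {n : G} (hn : n ∈ P.N) {M : Subgroup G} (hB : P.B ≤ M)
    (h : ∀ b ∈ P.B, n * b * n⁻¹ ∈ M) : n ∈ M :=
  (gen_aux _ n hn rfl M hB h).1

/-- A subgroup containing `B` and `n` contains every letter of every reduced word of `n`. -/
theorem letters_mem {n : G} (hn : n ∈ P.N) {M : Subgroup G} (hB : P.B ≤ M) (hnM : n ∈ M)
    {l : List G} (hw : IsWord P l n) (hlen : l.length = len P n) {x : G} (hx : x ∈ l) : x ∈ M :=
  (gen_aux _ n hn rfl M hB fun b hb =>
    M.mul_mem (M.mul_mem hnM (hB hb)) (M.inv_mem hnM)).2 l hw hlen x hx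

theorem B_le_parabolic (J : Set G) : P.B ≤ P.parabolic J := le_sup_left

theorem closure_le_parabolic (J : Set G) : Subgroup.closure J ≤ P.parabolic J := le_sup_right

theorem mem_parabolic_of_mem {J : Set G} {x : G} (hx : x ∈ J) : x ∈ P.parabolic J :=
  closure_le_parabolic J (Subgroup.subset_closure hx)

theorem parabolic_le_iff {J : Set G} {M : Subgroup G} :
    P.parabolic J ≤ M ↔ P.B ≤ M ∧ J ⊆ (M : Set G) := by
  simp [Cfsg.BNPair.parabolic, Subgroup.closure_le]

theorem parabolic_mono {J K : Set G} (h : J ⊆ K) : P.parabolic J ≤ P.parabolic K :=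
  sup_le_sup_left (Subgroup.closure_mono h) _

/-- The parabolic subgroup for `J` is the union of the cells of the elements of `⟨J⟩`. -/
theorem mem_parabolic_iff {J : Set G} (hJ : J ⊆ P.S) {g : G} :
    g ∈ P.parabolic J ↔ ∃ n ∈ Subgroup.closure J, g ∈ cell P n := by
  constructor
  · intro hg
    have hJN : Subgroup.closure J ≤ P.N :=
      (Subgroup.closure_le _).2 fun x hx => P.subset (hJ hx)
    have hg' : g ∈ Subgroup.closure ((P.B : Set G) ∪ J) := by
      rw [Subgroup.closure_union, Subgroup.closure_eq]; exact hg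
    have main : ∀ x ∈ J, ∀ n ∈ Subgroup.closure J, ∀ c ∈ P.B,
        ∃ m ∈ Subgroup.closure J, x * c * n ∈ cell P m := fun x hx n hn c hc =>
      (cell_union (hJ hx) (hJN hn) hc).elim
        (fun h => ⟨x * n, Subgroup.mul_mem _ (Subgroup.subset_closure hx) hn, h⟩)
        fun h => ⟨n, hn, h⟩
    induction hg' using Subgroup.closure_induction_left with
    | one => exact ⟨1, Subgroup.one_mem _, mem_cell_self 1⟩
    | mul_left x hx y hy ih =>
      obtain ⟨n, hn, hy'⟩ := ih (by
        rw [Subgroup.closure_union, Subgroup.closure_eq] at hy; exact hy)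
      rcases hx with hx | hx
      · exact ⟨n, hn, mul_mem_cell_left hx hy'⟩
      · obtain ⟨u, hu, v, hv, rfl⟩ := mem_cell_iff.1 hy'
        obtain ⟨m, hm, h⟩ := main x hx n hn u hu
        exact ⟨m, hm, by simpa [mul_assoc] using mul_mem_cell_right hv h⟩
    | inv_mul_cancel x hx y hy ih =>
      obtain ⟨n, hn, hy'⟩ := ih (by
        rw [Subgroup.closure_union, Subgroup.closure_eq] at hy; exact hy)
      rcases hx with hx | hx
      · exact ⟨n, hn, mul_mem_cell_left (P.B.inv_mem hx) hy'⟩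
      · obtain ⟨u, hu, v, hv, rfl⟩ := mem_cell_iff.1 hy'
        obtain ⟨m, hm, h⟩ := main x hx n hn ((x * x)⁻¹ * u)
          (P.B.mul_mem (P.B.inv_mem (P.sq_mem x (hJ hx))) hu)
        refine ⟨m, hm, ?_⟩
        have := mul_mem_cell_right hv h
        rwa [show x * ((x * x)⁻¹ * u) * n * v = x⁻¹ * (u * n * v) by group] at this
  · rintro ⟨n, hn, hg⟩
    obtain ⟨u, hu, v, hv, rfl⟩ := mem_cell_iff.1 hg
    exact Subgroup.mul_mem _ (Subgroup.mul_mem _ (B_le_parabolic J hu)
      (closure_le_parabolic J hn)) (B_le_parabolic J hv)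

theorem parabolic_S : P.parabolic P.S = ⊤ := by
  rw [eq_top_iff, ← P.sup_eq_top]
  refine sup_le (B_le_parabolic _) ?_
  calc P.N = Subgroup.closure P.S ⊔ (P.B ⊓ P.N) := P.closure_sup.symm
    _ ≤ _ := sup_le (closure_le_parabolic _) (inf_le_left.trans (B_le_parabolic _))

/-- Bruhat decomposition `G = B N B`. -/
theorem bruhat (g : G) : ∃ n ∈ P.N, g ∈ cell P n := by
  obtain ⟨n, hn, hg⟩ :=
    (mem_parabolic_iff (subset_refl P.S)).1 (parabolic_S (P := P) ▸ Subgroup.mem_top g)
  exact ⟨n, (Subgroup.closure_le _).2 P.subset hn, hg⟩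

/-- `N ∩ P_J` consists of the elements congruent to elements of `⟨J⟩`. -/
theorem mem_parabolic_N_iff {J : Set G} (hJ : J ⊆ P.S) {n : G} (hn : n ∈ P.N) :
    n ∈ P.parabolic J ↔ ∃ l, (∀ x ∈ l, x ∈ J) ∧ IsWord P l n ∧ l.length = len P n := by
  constructor
  · intro h
    obtain ⟨m, hm, hnm⟩ := (mem_parabolic_iff hJ).1 h
    have hmN : m ∈ P.N := (Subgroup.closure_le _).2 (fun x hx => P.subset (hJ hx)) hm
    have hmn := (mem_cell_iff_sameW hmN hn).1 hnm
    obtain ⟨l, hlJ, hl⟩ := exists_word_of_mem_closure hJ hm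
    obtain ⟨l', hsub, hw, hlen⟩ := exists_reduced_sublist hl.1
    refine ⟨l', fun x hx => hlJ x (hsub.subset hx),
      isWord_of_sameW hw (sameW_trans hl.2 hmn), ?_⟩
    rw [hlen, len_congr (prod_mem_N hl.1) hn (sameW_trans hl.2 hmn)]
  · rintro ⟨l, hlJ, hw, -⟩
    rw [show n = l.prod * (l.prod⁻¹ * n) by simp]
    exact Subgroup.mul_mem _ (closure_le_parabolic J (prod_mem_closure hlJ))
      (B_le_parabolic J hw.2)

theorem len_S {s : G} (hs : s ∈ P.S) : len P s = 1 := by
  have h1 : len P s ≤ 1 := len_le (l := [s]) ⟨by simpa using hs, by simp [SameW]⟩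
  have h2 : len P s ≠ 0 := fun h => not_mem_B hs ((len_eq_zero_iff (S_subset_N hs)).1 h)
  omega

/-- A distinguished generator lies in `P_J` only if it lies in `J`. -/
theorem mem_parabolic_S_iff {J : Set G} (hJ : J ⊆ P.S) {s : G} (hs : s ∈ P.S) :
    s ∈ P.parabolic J ↔ s ∈ J := by
  refine ⟨fun h => ?_, mem_parabolic_of_mem⟩
  obtain ⟨l, hlJ, hw, hlen⟩ := (mem_parabolic_N_iff hJ (S_subset_N hs)).1 h
  rw [len_S hs, List.length_eq_one_iff] at hlen
  obtain ⟨r, rfl⟩ := hlen
  have hr : r ∈ J := hlJ r (by simp)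
  rw [← P.inj r (hJ hr) s hs (by simpa [IsWord, SameW] using hw.2)]
  exact hr

theorem letters_mem_of_parabolic {J : Set G} (hJ : J ⊆ P.S) {n : G} (hn : n ∈ P.N)
    (h : n ∈ P.parabolic J) {l : List G} (hw : IsWord P l n) (hlen : l.length = len P n)
    {x : G} (hx : x ∈ l) : x ∈ J :=
  (mem_parabolic_S_iff hJ (hw.1 x hx)).1 (letters_mem hn (B_le_parabolic J) h hw hlen hx)

/-- Distinct subsets of `S` give distinct parabolic subgroups; indeed inclusion is reflected. -/
theorem parabolic_le_parabolic_iff {J K : Set G} (hJ : J ⊆ P.S) (hK : K ⊆ P.S) :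
    P.parabolic J ≤ P.parabolic K ↔ J ⊆ K :=
  ⟨fun h _ hx => (mem_parabolic_S_iff hK (hJ hx)).1 (h (mem_parabolic_of_mem hx)), parabolic_mono⟩

theorem parabolic_injective {J K : Set G} (hJ : J ⊆ P.S) (hK : K ⊆ P.S)
    (h : P.parabolic J = P.parabolic K) : J = K :=
  subset_antisymm ((parabolic_le_parabolic_iff hJ hK).1 h.le)
    ((parabolic_le_parabolic_iff hK hJ).1 h.ge)

theorem parabolic_inter {J K : Set G} (hJ : J ⊆ P.S) (hK : K ⊆ P.S) :
    P.parabolic J ⊓ P.parabolic K = P.parabolic (J ∩ K) := by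
  refine le_antisymm (fun g hg => ?_)
    (le_inf (parabolic_mono Set.inter_subset_left) (parabolic_mono Set.inter_subset_right))
  obtain ⟨n, hn, hgn⟩ := bruhat g (P := P)
  obtain ⟨u, hu, v, hv, rfl⟩ := mem_cell_iff.1 hgn
  have key : ∀ L : Set G, u * n * v ∈ P.parabolic L → n ∈ P.parabolic L := fun L h => by
    rwa [Subgroup.mul_mem_cancel_right _ (B_le_parabolic L hv),
      Subgroup.mul_mem_cancel_left _ (B_le_parabolic L hu)] at h
  obtain ⟨l, hw, hlen⟩ := exists_reduced hn
  have h' : n ∈ P.parabolic (J ∩ K) :=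
    (mem_parabolic_N_iff (fun x hx => hJ hx.1) hn).2
      ⟨l, fun x hx => ⟨letters_mem_of_parabolic hJ hn (key J hg.1) hw hlen hx,
        letters_mem_of_parabolic hK hn (key K hg.2) hw hlen hx⟩, hw, hlen⟩
  exact Subgroup.mul_mem _ (Subgroup.mul_mem _ (B_le_parabolic _ hu) h') (B_le_parabolic _ hv)

/-- Every subgroup containing `B` is a standard parabolic subgroup. -/
theorem eq_parabolic_of_B_le {M : Subgroup G} (hM : P.B ≤ M) :
    M = P.parabolic {s ∈ P.S | s ∈ M} := by
  refine le_antisymm (fun g hg => ?_) (parabolic_le_iff.2 ⟨hM, fun x hx => hx.2⟩)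
  obtain ⟨n, hn, hgn⟩ := bruhat g (P := P)
  obtain ⟨u, hu, v, hv, rfl⟩ := mem_cell_iff.1 hgn
  have hnM : n ∈ M := by
    rwa [Subgroup.mul_mem_cancel_right _ (hM hv), Subgroup.mul_mem_cancel_left _ (hM hu)] at hg
  obtain ⟨l, hw, hlen⟩ := exists_reduced hn
  have h' : n ∈ P.parabolic {s ∈ P.S | s ∈ M} :=
    (mem_parabolic_N_iff (fun x hx => hx.1) hn).2
      ⟨l, fun x hx => ⟨hw.1 x hx, letters_mem hn hM hnM hw hlen hx⟩, hw, hlen⟩
  exact Subgroup.mul_mem _ (Subgroup.mul_mem _ (B_le_parabolic _ hu) h') (B_le_parabolic _ hv)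

/-- If `g` conjugates `B` into a subgroup `M ≥ B` then `g ∈ M`. -/
theorem mem_of_conj_B_le {g : G} {M : Subgroup G} (hM : P.B ≤ M)
    (h : ∀ b ∈ P.B, g * b * g⁻¹ ∈ M) : g ∈ M := by
  obtain ⟨n, hn, hgn⟩ := bruhat g (P := P)
  obtain ⟨u, hu, v, hv, rfl⟩ := mem_cell_iff.1 hgn
  refine M.mul_mem (M.mul_mem (hM hu) (mem_of_conj_le hn hM fun b hb => ?_)) (hM hv)
  have h1 := h (v⁻¹ * b * v) (P.B.mul_mem (P.B.mul_mem (P.B.inv_mem hv) hb) hv)
  rw [show u * n * v * (v⁻¹ * b * v) * (u * n * v)⁻¹ = u * (n * b * n⁻¹) * u⁻¹ by group] at h1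
  rwa [Subgroup.mul_mem_cancel_right _ (M.inv_mem (hM hu)),
    Subgroup.mul_mem_cancel_left _ (hM hu)] at h1

theorem normalizer_eq_self_of_B_le {M : Subgroup G} (hM : P.B ≤ M) :
    Subgroup.normalizer (M : Set G) = M := by
  refine le_antisymm (fun g hg => mem_of_conj_B_le hM fun b hb => ?_) Subgroup.le_normalizer
  exact (Subgroup.mem_normalizer_iff.1 hg b).1 (hM hb)

/-! ### Rank one -/

theorem rank_one_exists (h : P.rank = 1) : ∃ s, P.S = {s} := by
  rw [Cfsg.BNPair.rank] at h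
  obtain ⟨s, hs⟩ := (Set.ncard_eq_one (s := P.S)).1 (by rwa [← Nat.card_coe_set_eq])
  exact ⟨s, hs⟩

theorem rank_one_mem_cell {s : G} (hS : P.S = {s}) {g : G} (hg : g ∉ P.B) :
    g ∈ cell P s := by
  obtain ⟨n, hn, hgn⟩ := bruhat g (P := P)
  have hnB : n ∉ P.B := fun h => hg (by rwa [cell_of_mem_B h, SetLike.mem_coe] at hgn)
  obtain ⟨l, hw, hlen⟩ := exists_reduced hn
  have hall : ∀ x ∈ l, x = s := fun x hx => by simpa [hS] using hw.1 x hx
  have hs : s ∈ P.S := by simp [hS]
  suffices SameW P s n by rwa [cell_eq_of_sameW this] at hgn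
  rcases l with _ | ⟨a, _ | ⟨b, l⟩⟩
  · exact absurd ((len_eq_zero_iff hn).1 (by simpa using hlen.symm)) hnB
  · simpa [hall a (by simp), IsWord] using hw.2
  · exfalso
    have ha := hall a (by simp)
    have hb := hall b (by simp)
    subst ha; subst hb
    have hl : ∀ x ∈ l, x ∈ P.S := fun x hx => hw.1 x (by simp [hx])
    have := len_le (n := n) ⟨hl, sameW_trans (sameW_symm (sq_mul_sameW hs (prod_mem_N hl)))
      (by simpa [IsWord] using hw.2)⟩
    simp at hlen
    omega

theorem rank_one_pretransitive (h : P.rank = 1) :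
    MulAction.IsMultiplyPretransitive G (G ⧸ P.B) 2 := by
  obtain ⟨s, hS⟩ := rank_one_exists h
  have key : ∀ x y : G ⧸ P.B, x ≠ y → ∃ g : G,
      g • ((1 : G) : G ⧸ P.B) = x ∧ g • ((s : G) : G ⧸ P.B) = y := by
    intro x y hxy
    obtain ⟨a, rfl⟩ := QuotientGroup.mk_surjective x
    obtain ⟨c, rfl⟩ := QuotientGroup.mk_surjective y
    have hac : a⁻¹ * c ∉ P.B := fun h => hxy (QuotientGroup.eq.2 h)
    obtain ⟨u, hu, v, hv, e⟩ := mem_cell_iff.1 (rank_one_mem_cell hS hac)
    refine ⟨a * u, ?_, ?_⟩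
    · exact QuotientGroup.eq.2 (by simpa [mul_assoc] using hu)
    · exact QuotientGroup.eq.2 (by
        change (a * u * s)⁻¹ * c ∈ P.B
        rw [show (a * u * s)⁻¹ * c = s⁻¹ * u⁻¹ * (a⁻¹ * c) by group, e]
        simpa [mul_assoc] using hv)
  rw [MulAction.is_two_pretransitive_iff]
  intro a b c d hab hcd
  obtain ⟨g, hg1, hg2⟩ := key a b hab
  obtain ⟨g', hg1', hg2'⟩ := key c d hcd
  exact ⟨g' * g⁻¹, by rw [mul_smul, ← hg1, inv_smul_smul, hg1'],
    by rw [mul_smul, ← hg2, inv_smul_smul, hg2']⟩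

end Cfsg.Agent.Lib.BNPair.Basic
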