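import Cfsg.Agent.Lib.BNPair.Basic

/-!
# Nontrivial normal subgroups of an irreducible (B,N)-pair cover the group modulo `B`

The first half of the simplicity criterion, without perfectness.

Owner: helper86.
-/

set_option autoImplicit false

namespace Cfsg.Agent.Lib.BNPair

open Cfsg.Agent.Lib.BNPair.Basic
open scoped Pointwise

theorem sup_normal_eq_top {G : Type*} [Group G]
    (P : Cfsg.BNPair G) (hirr : P.Irreducible) (hcore : P.B.normalCore = ⊥)
    (H : Subgroup G) (hH : H.Normal) (hbot : H ≠ ⊥) : P.B ⊔ H = ⊤ := by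
  have hle : P.B ≤ P.B ⊔ H := le_sup_left
  let J : Set G := {s ∈ P.S | s ∈ P.B ⊔ H}
  have hJS : J ⊆ P.S := fun x hx => hx.1
  have hM : P.B ⊔ H = P.parabolic J := eq_parabolic_of_B_le hle
  have hcomm : ∀ t ∈ J, ∀ s ∈ P.S \ J, t * s * t⁻¹ * s⁻¹ ∈ P.B := by
    rintro t ⟨ht, htM⟩ s ⟨hs, hsJ⟩
    have hne : t ≠ s := fun h => hsJ (h ▸ ⟨ht, htM⟩)
    have htN := S_subset_N ht
    have hsN := S_subset_N hs
    have hts : t * s ∈ P.N := mul_mem htN hsN
    have hlts : len P (t * s) = 2 := by
      rcases len_mul_left_cases ht hsN with h | h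
      · rw [h, len_S hs]
      · exfalso
        rw [len_S hs, Nat.add_eq_right] at h
        have h0 : SameW P 1 (t * s) := sameW_one_iff.2 ((len_eq_zero_iff hts).1 h)
        have h1 := sameW_trans (sameW_mul_left t h0) (sq_mul_sameW ht hsN)
        exact hne (P.inj t ht s hs (by simpa [SameW] using h1))
    have hststs : s * (t * s) ∈ P.N := mul_mem hsN hts
    rcases len_mul_left_cases hs hts with hup | hdown
    · exfalso
      rw [hlts] at hup
      -- an element of `H` in the cell of `t`
      obtain ⟨h, hh, b, hb, htb⟩ : ∃ h ∈ H, ∃ b ∈ P.B, h * b = t := by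
        have h' : t ∈ ((H ⊔ P.B : Subgroup G) : Set G) := by rw [sup_comm]; exact htM
        rw [Subgroup.normal_mul H P.B] at h'
        exact Set.mem_mul.1 h'
      have hconj : s * h * s⁻¹ ∈ P.B ⊔ H := (le_sup_right : H ≤ _) (hH.conj_mem h hh s)
      have e : s * h * s⁻¹ = s * (t * b⁻¹ * s) * (s * s)⁻¹ := by rw [← htb]; group
      have h1 : t * b⁻¹ * s ∈ cell P (t * s) :=
        mul_mem_cell_of_le ht hsN (by rw [hlts, len_S hs]; omega) (P.B.inv_mem hb)
      obtain ⟨x, hx, y, hy, he⟩ := mem_cell_iff.1 h1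
      have h2 : s * h * s⁻¹ ∈ cell P (s * (t * s)) := by
        rw [e, he, show s * (x * (t * s) * y) = s * x * (t * s) * y by group]
        exact mul_mem_cell_right (P.B.inv_mem (P.sq_mem s hs))
          (mul_mem_cell_right hy (mul_mem_cell_of_le hs hts (by omega) hx))
      obtain ⟨u, hu, v, hv, he2⟩ := mem_cell_iff.1 h2
      rw [he2, Subgroup.mul_mem_cancel_right _ (hle hv), Subgroup.mul_mem_cancel_left _ (hle hu),
        hM] at hconj
      exact hsJ (letters_mem_of_parabolic hJS hststs hconj (l := [s, t, s])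
        ⟨by simp [hs, ht], by simp [SameW]⟩ (by simp [hup]) (by simp))
    · obtain ⟨r, hr, hr'⟩ : ∃ r, r ∈ P.S ∧ SameW P r (s * (t * s)) := by
        obtain ⟨l, hw, hlen⟩ := exists_reduced hststs
        rw [show len P (s * (t * s)) = 1 by omega, List.length_eq_one_iff] at hlen
        obtain ⟨r, rfl⟩ := hlen
        exact ⟨r, hw.1 r (by simp), by simpa [IsWord] using hw.2⟩
      have hst2 : ({s, t} : Set G) ⊆ P.S := Set.insert_subset hs (Set.singleton_subset_iff.2 ht)
      have hmem : s * (t * s) ∈ P.parabolic {s, t} :=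
        mul_mem (mem_parabolic_of_mem (by simp))
          (mul_mem (mem_parabolic_of_mem (by simp)) (mem_parabolic_of_mem (by simp)))
      have hrmem : r ∈ P.parabolic {s, t} := by
        have e : r = s * (t * s) * (r⁻¹ * (s * (t * s)))⁻¹ := by group
        rw [e]
        exact mul_mem hmem (inv_mem (B_le_parabolic _ hr'))
      rcases (mem_parabolic_S_iff hst2 hr).1 hrmem with rfl | rfl
      · exfalso
        have h0 : t * r ∈ P.B := by simpa [SameW] using hr'
        rw [(len_eq_zero_iff hts).2 h0] at hlts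
        omega
      · -- `r * s ≡ s * r`
        have h1 : SameW P (s * r) (r * s) :=
          sameW_trans (sameW_mul_left s hr') (sq_mul_sameW hs hts)
        have h2 := sameW_symm h1
        have := conj_B (mul_mem hsN htN) (sameW_symm h2)
          (mul_mem (inv_mem (mul_mem hsN htN)) hts)
        simpa [SameW, mul_assoc] using this
  rcases J.eq_empty_or_nonempty with hJ | hJne
  · exfalso
    rw [hJ] at hM
    have hHB : H ≤ P.B := by
      calc H ≤ P.B ⊔ H := le_sup_right
        _ = P.B := by rw [hM]; simp [Cfsg.BNPair.parabolic]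
    have := (Subgroup.normal_le_normalCore (hN := hH)).2 hHB
    rw [hcore, le_bot_iff] at this
    exact hbot this
  have hJall : J = P.S := by
    refine hJS.antisymm fun s hs => by_contra fun hsJ => ?_
    obtain ⟨a, ha, b, hb, hab⟩ := hirr J hJS hJne ⟨s, hs, hsJ⟩
    exact hab (hcomm a ha b hb)
  rw [hJall, parabolic_S] at hM
  exact hM

end Cfsg.Agent.Lib.BNPair
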