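import Cfsg.Agent.Lib.BNPair.Basic
import Mathlib.GroupTheory.PGroup

/-!
Fixed chambers in a rank two (B, N)-pair: when an element fixes no chamber opposite to the base one,
its fixed chambers and fixed panels form a tree, so their Euler characteristic is one.
-/

set_option autoImplicit false
set_option linter.unusedSectionVars false

namespace Cfsg.Agent.Lib.BNPair.RankTwoFix

open Cfsg.Agent.Lib.BNPair.Basic

variable {G : Type*} [Group G] (P : Cfsg.BNPair G)

/-- Multiplication on the right by `x` goes up from `n`, on cells. -/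
def Up (n x : G) : Prop := ∀ b ∈ P.B, n * b * x ∈ cell P (n * x)

variable {P}

theorem cell_right_of_le {x n b : G} (hx : x ∈ P.S) (hn : n ∈ P.N) (h : len P n ≤ len P (n * x))
    (hb : b ∈ P.B) : n * b * x ∈ cell P (n * x) := by
  have hxN := S_subset_N hx
  have hs := inv_sameW hx
  have hlen : len P (x * n⁻¹) = len P (n * x) := by
    have e : SameW P (n * x⁻¹) (n * x) := sameW_mul_left n hs
    rw [← len_inv (P.N.mul_mem hxN (P.N.inv_mem hn)), mul_inv_rev, inv_inv,
      len_congr (P.N.mul_mem hn (P.N.inv_mem hxN)) (P.N.mul_mem hn hxN) e]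
  have h1 := mul_mem_cell_of_le (b := (x * x) * (x * x)⁻¹ * b⁻¹) hx (P.N.inv_mem hn)
    (by rw [len_inv hn, hlen]; exact h) (by simpa using hb)
  rw [mul_inv_cancel, one_mul] at h1
  have h2 := inv_mem_cell h1
  rw [show (x * b⁻¹ * n⁻¹)⁻¹ = n * b * x⁻¹ by group, show (x * n⁻¹)⁻¹ = n * x⁻¹ by group] at h2
  have h3 : n * b * x⁻¹ * (x * x) ∈ cell P (n * x⁻¹) := mul_mem_cell_right (P.sq_mem x hx) h2
  rw [cell_eq_of_sameW (sameW_mul_left n hs), show n * b * x = n * b * x⁻¹ * (x * x) by group]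
  exact h3

theorem len_lt_of_up {x n : G} (hx : x ∈ P.S) (hn : n ∈ P.N) (h : Up P n x) :
    len P n < len P (n * x) := by
  have hxN := S_subset_N hx
  have hle : len P n ≤ len P (n * x) := by
    by_contra hlt
    push Not at hlt
    -- going down, some product stays in the cell
    obtain ⟨c, hc, hcx⟩ := exists_mem_cell_s hx
    obtain ⟨u, hu, v, hv, e⟩ := mem_cell_iff.1 hcx
    have hnx := P.N.mul_mem hn hxN
    have hnn : SameW P (n * x * x) n := mul_sq_sameW hx
    have hdown : len P (n * x) ≤ len P (n * x * x) := by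
      rw [len_congr (P.N.mul_mem hnx hxN) hn hnn]; omega
    have h1 := cell_right_of_le hx hnx hdown hu
    rw [cell_eq_of_sameW (sameW_symm hnn)] at h1
    have h2 := h c hc
    have h3 : n * x⁻¹ * (x * c * x) ∈ cell P (n * x) := by
      rw [show n * x⁻¹ * (x * c * x) = n * c * x by group]; exact h2
    rw [e, show n * x⁻¹ * (u * x * v) = n * x⁻¹ * u * x * v by group] at h3
    have hn' : SameW P (n * x) (n * x⁻¹) := sameW_symm (sameW_mul_left n (inv_sameW hx))
    have h4 : n * x⁻¹ * u * x ∈ cell P (n * x) := by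
      simpa using mul_mem_cell_right (P.B.inv_mem hv) h3
    have h5 : n * x⁻¹ * u * x ∈ cell P n := by
      have e' : n * x⁻¹ * u * x = n * x * ((x * x)⁻¹ * u) * x := by group
      rw [e']
      have h6 := cell_right_of_le hx hnx hdown (P.B.mul_mem (P.B.inv_mem (P.sq_mem x hx)) hu)
      rw [cell_eq_of_sameW (sameW_symm hnn)] at h6
      exact h6
    have h7 := sameW_of_mem_cell hn hnx h5 h4
    apply not_mem_B hx
    simpa [SameW] using h7
  have hne : len P (n * x) ≠ len P n := by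
    have h1 := len_mul_left_ne hx (P.N.inv_mem hn)
    rw [len_inv hn, ← len_inv (P.N.mul_mem hxN (P.N.inv_mem hn)), mul_inv_rev, inv_inv,
      len_congr (P.N.mul_mem hn (P.N.inv_mem hxN)) (P.N.mul_mem hn hxN)
        (sameW_mul_left n (inv_sameW hx))] at h1
    exact h1
  omega

/-- The fixed points of `a` on the cosets of a subgroup. -/
def Fx (a : G) (H : Subgroup G) : Type _ := {y : G ⧸ H // a • y = y}

theorem fix_iff {a g : G} {H : Subgroup G} : a • (g : G ⧸ H) = (g : G ⧸ H) ↔ g⁻¹ * a * g ∈ H := by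
  show ((a * g : G) : G ⧸ H) = _ ↔ _
  rw [QuotientGroup.eq, ← H.inv_mem_iff]
  simp [mul_assoc]

/-- The fixed chambers from which the panel of type `x` goes up. -/
def Asc (P : Cfsg.BNPair G) (a x : G) : Set (G ⧸ P.B) :=
  {y | a • y = y ∧ ∃ g n : G, y = (g : G ⧸ P.B) ∧ n ∈ P.N ∧ g ∈ cell P n ∧ len P n < len P (n * x)}

theorem len_of_cell {n m g g' : G} (hn : n ∈ P.N) (hm : m ∈ P.N) (h : g ∈ cell P n) (h' : g' ∈ cell P m)
    (hgg : (g : G ⧸ P.B) = (g' : G ⧸ P.B)) : SameW P n m := by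
  refine sameW_of_mem_cell hn hm (g := g') ?_ h'
  rw [show g' = g * (g⁻¹ * g') by group]
  exact mul_mem_cell_right (QuotientGroup.eq.1 hgg) h

theorem card_Asc [Finite G] {a x : G} (ha : a ∈ P.B) (hx : x ∈ P.S) :
    Nat.card (Asc P a x) = Nat.card {y : G ⧸ P.parabolic {x} // a • y = y} := by
  have hxN := S_subset_N hx
  have hQ : P.B ≤ P.parabolic {x} := B_le_parabolic _
  have hxQ : x ∈ P.parabolic {x} := mem_parabolic_of_mem rfl
  have hcases : ∀ p ∈ P.parabolic {x}, p ∈ P.B ∨ p ∈ cell P x := by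
    intro p hp
    obtain ⟨k, hk, hpk⟩ := (mem_parabolic_iff (Set.singleton_subset_iff.2 hx)).1 hp
    rw [← Subgroup.zpowers_eq_closure] at hk
    obtain ⟨i, rfl⟩ := hk
    rcases Int.even_or_odd' i with ⟨j, rfl | rfl⟩
    · left
      have : x ^ (2 * j) ∈ P.B := by
        rw [zpow_mul, zpow_two]; exact P.B.zpow_mem (P.sq_mem x hx) j
      rwa [cell_of_mem_B this] at hpk
    · right
      have : SameW P x (x ^ (2 * j + 1)) := by
        show x⁻¹ * x ^ (2 * j + 1) ∈ P.B
        rw [show x⁻¹ * x ^ (2 * j + 1) = x ^ (2 * j) by group, zpow_mul, zpow_two]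
        exact P.B.zpow_mem (P.sq_mem x hx) j
      rwa [cell_eq_of_sameW this] at hpk
  let π : G ⧸ P.B → G ⧸ P.parabolic {x} := Quotient.map' id fun u v h => by
    rw [QuotientGroup.leftRel_apply] at h ⊢
    exact hQ h
  have hπ : ∀ g : G, π (g : G ⧸ P.B) = (g : G ⧸ P.parabolic {x}) := fun _ => rfl
  let f : Asc P a x → {y : G ⧸ P.parabolic {x} // a • y = y} := fun y => ⟨π y.1, by
    obtain ⟨g, hg⟩ := QuotientGroup.mk_surjective y.1
    have h := y.2.1
    rw [← hg] at h ⊢
    rw [hπ, fix_iff]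
    exact hQ (fix_iff.1 h)⟩
  refine Nat.card_congr (Equiv.ofBijective f ⟨fun y y' h => ?_, fun z => ?_⟩)
  · obtain ⟨g, n, hy, hn, hg, hlt⟩ := y.2.2
    obtain ⟨g', n', hy', hn', hg', hlt'⟩ := y'.2.2
    have h' : π y.1 = π y'.1 := congrArg Subtype.val h
    rw [hy, hy', hπ, hπ] at h'
    refine Subtype.ext ?_
    rw [hy, hy']
    rcases hcases _ (QuotientGroup.eq.1 h') with hB | hc
    · exact QuotientGroup.eq.2 hB
    exfalso
    obtain ⟨u, hu, v, hv, e⟩ := mem_cell_iff.1 hg
    obtain ⟨u', hu', v', hv', e'⟩ := mem_cell_iff.1 hc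
    have h1 : g' ∈ cell P (n * x) := by
      rw [show g' = g * (g⁻¹ * g') by group, e', e,
        show u * n * v * (u' * x * v') = u * (n * (v * u') * x) * v' by group]
      exact mul_mem_cell_right hv' (mul_mem_cell_left hu
        (cell_right_of_le hx hn hlt.le (P.B.mul_mem hv hu')))
    have hs := sameW_of_mem_cell hn' (P.N.mul_mem hn hxN) hg' h1
    have h2 := len_congr hn' (P.N.mul_mem hn hxN) hs
    have hx' : SameW P (n' * x) n :=
      sameW_trans (sameW_mul_right hn' (P.N.mul_mem hn hxN) hxN hs) (mul_sq_sameW hx)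
    have h3 := len_congr (P.N.mul_mem hn' hxN) hn hx'
    omega
  · classical
    obtain ⟨⟨h0, hfix⟩⟩ : Nonempty {y : G ⧸ P.parabolic {x} // a • y = y} := ⟨z⟩
    obtain ⟨c, hc⟩ := QuotientGroup.mk_surjective z.1
    obtain ⟨n0, hn0, hcn0⟩ := bruhat (P := P) c
    let Sd : Set ℕ := {k | ∃ g n : G, (g : G ⧸ P.parabolic {x}) = z.1 ∧ n ∈ P.N ∧ g ∈ cell P n ∧ len P n = k}
    have hne : Sd.Nonempty := ⟨_, c, n0, hc, hn0, hcn0, rfl⟩
    obtain ⟨g, n, hgz, hn, hg, hk⟩ := Nat.sInf_mem hne
    have hnx := P.N.mul_mem hn hxN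
    have hup : len P n < len P (n * x) := by
      by_contra hge
      push Not at hge
      have hne' : len P (n * x) ≠ len P n := by
        intro he
        have h1 := len_mul_left_ne hx (P.N.inv_mem hn)
        apply h1
        rw [len_inv hn, ← he, ← len_inv hnx, mul_inv_rev]
        exact len_congr (P.N.mul_mem hxN (P.N.inv_mem hn)) (P.N.mul_mem (P.N.inv_mem hxN) (P.N.inv_mem hn))
          (sameW_mul_right hxN (P.N.inv_mem hxN) (P.N.inv_mem hn) (sameW_symm (inv_sameW hx)))
      obtain ⟨u, hu, v, hv, e⟩ := mem_cell_iff.1 hg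
      have h1 : len P (n * x) ∈ Sd := by
        refine ⟨u * (n * x), n * x, ?_, hnx, mem_cell_iff.2 ⟨u, hu, 1, P.B.one_mem, by group⟩, rfl⟩
        rw [← hgz]
        refine QuotientGroup.eq.2 ?_
        rw [e, show (u * (n * x))⁻¹ * (u * n * v) = x⁻¹ * v by group]
        exact mul_mem (inv_mem hxQ) (hQ hv)
      have := Nat.sInf_le h1
      omega
    refine ⟨⟨(g : G ⧸ P.B), fix_iff.2 ?_, g, n, rfl, hn, hg, hup⟩, Subtype.ext ?_⟩
    · have hz := z.2
      rw [← hgz, fix_iff] at hz
      rcases hcases _ hz with hB | hcx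
      · exact hB
      exfalso
      obtain ⟨u, hu, v, hv, e⟩ := mem_cell_iff.1 hg
      obtain ⟨u', hu', v', hv', e'⟩ := mem_cell_iff.1 hcx
      have h1 : a * g ∈ cell P (n * x) := by
        rw [show a * g = g * (g⁻¹ * a * g) by group, e', e,
          show u * n * v * (u' * x * v') = u * (n * (v * u') * x) * v' by group]
        exact mul_mem_cell_right hv' (mul_mem_cell_left hu (cell_right_of_le hx hn hup.le (P.B.mul_mem hv hu')))
      have h2 : a * g ∈ cell P n := mul_mem_cell_left ha hg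
      have h3 := sameW_of_mem_cell hn hnx h2 h1
      apply not_mem_B hx
      simpa [SameW] using h3
    · exact (hπ g).trans hgz

/-- The Euler characteristic of the fixed chambers and panels. -/
theorem euler [Finite G] {s t : G} (hst : s ≠ t) (hS : P.S = {s, t}) {a : G} (ha : a ∈ P.B)
    (hopp : ∀ g n, n ∈ P.N → g ∈ cell P n → g⁻¹ * a * g ∈ P.B → Up P n s ∨ Up P n t) :
    Nat.card {y : G ⧸ P.parabolic {s} // a • y = y} + Nat.card {y : G ⧸ P.parabolic {t} // a • y = y} =
      Nat.card {y : G ⧸ P.B // a • y = y} + 1 := by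
  classical
  have hs : s ∈ P.S := by rw [hS]; exact Set.mem_insert _ _
  have ht : t ∈ P.S := by rw [hS]; exact Set.mem_insert_of_mem _ rfl
  rw [← card_Asc ha hs, ← card_Asc ha ht, Nat.card_coe_set_eq, Nat.card_coe_set_eq,
    ← Set.ncard_union_add_ncard_inter]
  have hU : Asc P a s ∪ Asc P a t = {y | a • y = y} := by
    ext y
    refine ⟨fun h => h.elim (·.1) (·.1), fun hy => ?_⟩
    obtain ⟨g, rfl⟩ := QuotientGroup.mk_surjective y
    obtain ⟨n, hn, hg⟩ := bruhat (P := P) g
    rcases hopp g n hn hg (fix_iff.1 hy) with h | h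
    · exact Or.inl ⟨hy, g, n, rfl, hn, hg, len_lt_of_up hs hn h⟩
    · exact Or.inr ⟨hy, g, n, rfl, hn, hg, len_lt_of_up ht hn h⟩
  have hI : Asc P a s ∩ Asc P a t = {((1 : G) : G ⧸ P.B)} := by
    ext y
    constructor
    · rintro ⟨⟨-, g, n, hy, hn, hg, hlt⟩, ⟨-, g', n', hy', hn', hg', hlt'⟩⟩
      have hnn := len_of_cell hn hn' hg hg' (hy.symm.trans hy')
      have hnt : len P n < len P (n * t) := by
        have htN := S_subset_N ht
        rw [len_congr hn hn' hnn,
          len_congr (P.N.mul_mem hn htN) (P.N.mul_mem hn' htN) (sameW_mul_right hn hn' htN hnn)]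
        exact hlt'
      have hnB : n ∈ P.B := by
        by_contra hB
        obtain ⟨r, hr, hrlt⟩ := exists_right_descent hn hB
        rw [hS, Set.mem_insert_iff, Set.mem_singleton_iff] at hr
        rcases hr with rfl | rfl <;> omega
      rw [cell_of_mem_B hnB] at hg
      rw [Set.mem_singleton_iff, hy, QuotientGroup.eq]
      simpa using hg
    · rintro rfl
      have h1 : ∀ x ∈ P.S, len P (1 : G) < len P (1 * x) := fun x hx => by
        rw [len_one, one_mul, len_S hx]; exact one_pos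
      have hf : a • ((1 : G) : G ⧸ P.B) = ((1 : G) : G ⧸ P.B) := fix_iff.2 (by simpa using ha)
      exact ⟨⟨hf, (1 : G), (1 : G), rfl, P.N.one_mem, mem_cell_self 1, h1 s hs⟩,
        ⟨hf, (1 : G), (1 : G), rfl, P.N.one_mem, mem_cell_self 1, h1 t ht⟩⟩
  rw [hU, hI, Set.ncard_singleton, ← Nat.card_coe_set_eq]
  rfl

/-- An element of prime order commuting with `a` fixes a chamber or a panel. -/
theorem dvd_of_commute [Finite G] {s t : G} (hst : s ≠ t) (hS : P.S = {s, t}) {a b : G} (ha : a ∈ P.B)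
    (hopp : ∀ g n, n ∈ P.N → g ∈ cell P n → g⁻¹ * a * g ∈ P.B → Up P n s ∨ Up P n t)
    (hab : Commute a b) {r : ℕ} (hr : r.Prime) (hb : orderOf b = r) :
    r ∣ Nat.card ↥(P.parabolic {s}) ∨ r ∣ Nat.card ↥(P.parabolic {t}) := by
  classical
  have : Fact r.Prime := ⟨hr⟩
  by_contra hcon
  push Not at hcon
  have key : ∀ H : Subgroup G, ¬ r ∣ Nat.card ↥H → r ∣ Nat.card {y : G ⧸ H // a • y = y} := by
    intro H hH
    have hpres : ∀ (z : ↥(Subgroup.zpowers b)) (y : G ⧸ H), a • y = y → a • ((z : G) • y) = (z : G) • y := by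
      intro z y hy
      obtain ⟨i, hi⟩ := z.2
      rw [← mul_smul, ← hi, (hab.zpow_right i).eq, mul_smul, hy]
    let act : MulAction ↥(Subgroup.zpowers b) {y : G ⧸ H // a • y = y} :=
      { smul := fun z y => ⟨(z : G) • y.1, hpres z y.1 y.2⟩
        one_smul := fun y => Subtype.ext (one_smul G y.1)
        mul_smul := fun z w y => Subtype.ext (mul_smul (z : G) (w : G) y.1) }
    have hp : IsPGroup r ↥(Subgroup.zpowers b) :=
      IsPGroup.of_card (n := 1) (by rw [Nat.card_zpowers, hb, pow_one])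
    have hmod := hp.card_modEq_card_fixedPoints {y : G ⧸ H // a • y = y}
    have h0 : IsEmpty (MulAction.fixedPoints ↥(Subgroup.zpowers b) {y : G ⧸ H // a • y = y}) := by
      refine ⟨fun ⟨y, hy⟩ => hH ?_⟩
      obtain ⟨g, hg⟩ := QuotientGroup.mk_surjective y.1
      have h1 : b • y.1 = y.1 := congrArg Subtype.val (hy ⟨b, Subgroup.mem_zpowers b⟩)
      rw [← hg, fix_iff] at h1
      have h2 : orderOf (g⁻¹ * b * g) = r := by
        rw [← hb, ← orderOf_injective (MulAut.conj g⁻¹).toMonoidHom (MulEquiv.injective _) b]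
        simp
      rw [← h2]
      exact Subgroup.orderOf_dvd_natCard _ h1
    rw [Nat.card_of_isEmpty (α := MulAction.fixedPoints _ _)] at hmod
    exact (Nat.modEq_zero_iff_dvd).1 hmod
  have hB : ¬ r ∣ Nat.card ↥P.B := fun h =>
    hcon.1 (h.trans (Subgroup.card_dvd_of_le (B_le_parabolic _)))
  have he := euler hst hS ha hopp
  have h1 := Nat.dvd_add (key _ hcon.1) (key _ hcon.2)
  rw [he, Nat.dvd_add_right (key _ hB)] at h1
  exact hr.one_lt.ne' (Nat.dvd_one.1 h1)

end Cfsg.Agent.Lib.BNPair.RankTwoFix
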